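import Cfsg.Agent.H626.EK.Data
import Cfsg.Agent.H498.SporOut
import Cfsg.Agent.NotCT.Orders

/-!
# S5745, CrossK numeric: `|T| ∈ sporO`, `|Aut T| ≤ 2 |T|`, `facOk |T|` for `T` sporadic (helper626)
-/

set_option autoImplicit false
set_option maxRecDepth 100000

namespace Cfsg.Agent.H626.EK

open Cfsg Cfsg.Agent.H746.EK Cfsg.Agent.NotCT

theorem card_mem_sporO {T : Type*} [Group T] (h : IsSporadicGroup T) : Nat.card T ∈ sporO := by
  unfold sporO
  rcases h with h | h | h | h | h | h | h | h | h | h | h | h | h | h | h | h | h | h | h | h | h | h | h | h | h | h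
  · rw [Orders.m11 h]; simp only [List.mem_cons, true_or]
  · rw [Orders.m12 h]; simp only [List.mem_cons, true_or, or_true]
  · rw [Orders.m22 h]; simp only [List.mem_cons, true_or, or_true]
  · rw [Orders.m23 h]; simp only [List.mem_cons, true_or, or_true]
  · rw [Orders.m24 h]; simp only [List.mem_cons, true_or, or_true]
  · rw [Orders.j1 h]; simp only [List.mem_cons, true_or, or_true]
  · rw [Orders.j2 h]; simp only [List.mem_cons, true_or, or_true]
  · rw [Orders.j3 h]; simp only [List.mem_cons, true_or, or_true]
  · rw [Orders.j4 h]; simp only [List.mem_cons, true_or, or_true]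
  · rw [Orders.co1 h]; simp only [List.mem_cons, true_or, or_true]
  · rw [Orders.co2 h]; simp only [List.mem_cons, true_or, or_true]
  · rw [Orders.co3 h]; simp only [List.mem_cons, true_or, or_true]
  · rw [Orders.mcl h]; simp only [List.mem_cons, true_or, or_true]
  · rw [Orders.hs h]; simp only [List.mem_cons, true_or, or_true]
  · rw [Orders.suz h]; simp only [List.mem_cons, true_or, or_true]
  · rw [Orders.he h]; simp only [List.mem_cons, true_or, or_true]
  · rw [Orders.ru h]; simp only [List.mem_cons, true_or, or_true]
  · rw [Orders.on h]; simp only [List.mem_cons, true_or, or_true]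
  · rw [Orders.ly h]; simp only [List.mem_cons, true_or, or_true]
  · rw [Orders.fi22 h]; simp only [List.mem_cons, true_or, or_true]
  · rw [Orders.fi23 h]; simp only [List.mem_cons, true_or, or_true]
  · rw [Orders.fi24 h]; simp only [List.mem_cons, true_or, or_true]
  · rw [Orders.hn h]; simp only [List.mem_cons, true_or, or_true]
  · rw [Orders.th h]; simp only [List.mem_cons, true_or, or_true]
  · rw [Orders.b h]; simp only [List.mem_cons, true_or, or_true]
  · rw [Orders.m h]; simp only [List.mem_cons, true_or, or_true]

theorem facOk_all : (sporO.all fun t => facOk t) = true := by decide +kernel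

theorem facOk_spor {t : ℕ} (ht : t ∈ sporO) : facOk t = true := List.all_eq_true.1 facOk_all t ht

theorem lt_all : (sporO.all fun t => Nat.blt (2 * t) (60 ^ 61) && Nat.blt 124 t) = true := by decide +kernel

theorem lt_spor {t : ℕ} (ht : t ∈ sporO) : 2 * t < 60 ^ 61 := by
  have h := List.all_eq_true.1 lt_all t ht
  rw [Bool.and_eq_true] at h
  have h1 := h.1
  unfold Nat.blt at h1
  exact Nat.le_of_ble_eq_true h1

theorem big_spor {t : ℕ} (ht : t ∈ sporO) : 124 < t := by
  have h := List.all_eq_true.1 lt_all t ht
  rw [Bool.and_eq_true] at h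
  have h1 := h.2
  unfold Nat.blt at h1
  exact Nat.le_of_ble_eq_true h1

/-- **`|Aut T| ≤ 2 |T|`** -/
theorem card_aut_le {T : Type*} [Group T] [Finite T] (h : IsSporadicGroup T) :
    Nat.card (MulAut T) ≤ 2 * Nat.card T := by
  have h1 := H498.SporOut.index_le_two h
  have h2 : Nat.card (MulAut.conj : T →* MulAut T).range ≤ Nat.card T :=
    Nat.card_le_card_of_surjective _ (MonoidHom.rangeRestrict_surjective _)
  rw [← Subgroup.card_mul_index (MulAut.conj : T →* MulAut T).range, mul_comm]
  exact Nat.mul_le_mul h1 h2

theorem isoM_of_card {T : Type*} [Group T] (h : IsSporadicGroup T)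
    (hc : Nat.card T = 808017424794512875886459904961710757005754368000000000) : Spor.IsoM T := by
  rcases h with h | h | h | h | h | h | h | h | h | h | h | h | h | h | h | h | h | h | h | h | h | h | h | h | h | h
  · rw [Orders.m11 h] at hc; exact absurd hc (by norm_num)
  · rw [Orders.m12 h] at hc; exact absurd hc (by norm_num)
  · rw [Orders.m22 h] at hc; exact absurd hc (by norm_num)
  · rw [Orders.m23 h] at hc; exact absurd hc (by norm_num)
  · rw [Orders.m24 h] at hc; exact absurd hc (by norm_num)
  · rw [Orders.j1 h] at hc; exact absurd hc (by norm_num)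
  · rw [Orders.j2 h] at hc; exact absurd hc (by norm_num)
  · rw [Orders.j3 h] at hc; exact absurd hc (by norm_num)
  · rw [Orders.j4 h] at hc; exact absurd hc (by norm_num)
  · rw [Orders.co1 h] at hc; exact absurd hc (by norm_num)
  · rw [Orders.co2 h] at hc; exact absurd hc (by norm_num)
  · rw [Orders.co3 h] at hc; exact absurd hc (by norm_num)
  · rw [Orders.mcl h] at hc; exact absurd hc (by norm_num)
  · rw [Orders.hs h] at hc; exact absurd hc (by norm_num)
  · rw [Orders.suz h] at hc; exact absurd hc (by norm_num)
  · rw [Orders.he h] at hc; exact absurd hc (by norm_num)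
  · rw [Orders.ru h] at hc; exact absurd hc (by norm_num)
  · rw [Orders.on h] at hc; exact absurd hc (by norm_num)
  · rw [Orders.ly h] at hc; exact absurd hc (by norm_num)
  · rw [Orders.fi22 h] at hc; exact absurd hc (by norm_num)
  · rw [Orders.fi23 h] at hc; exact absurd hc (by norm_num)
  · rw [Orders.fi24 h] at hc; exact absurd hc (by norm_num)
  · rw [Orders.hn h] at hc; exact absurd hc (by norm_num)
  · rw [Orders.th h] at hc; exact absurd hc (by norm_num)
  · rw [Orders.b h] at hc; exact absurd hc (by norm_num)
  · exact h

theorem isoLy_of_card {T : Type*} [Group T] (h : IsSporadicGroup T)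
    (hc : Nat.card T = 51765179004000000) : Spor.IsoLy T := by
  rcases h with h | h | h | h | h | h | h | h | h | h | h | h | h | h | h | h | h | h | h | h | h | h | h | h | h | h
  · rw [Orders.m11 h] at hc; exact absurd hc (by norm_num)
  · rw [Orders.m12 h] at hc; exact absurd hc (by norm_num)
  · rw [Orders.m22 h] at hc; exact absurd hc (by norm_num)
  · rw [Orders.m23 h] at hc; exact absurd hc (by norm_num)
  · rw [Orders.m24 h] at hc; exact absurd hc (by norm_num)
  · rw [Orders.j1 h] at hc; exact absurd hc (by norm_num)
  · rw [Orders.j2 h] at hc; exact absurd hc (by norm_num)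
  · rw [Orders.j3 h] at hc; exact absurd hc (by norm_num)
  · rw [Orders.j4 h] at hc; exact absurd hc (by norm_num)
  · rw [Orders.co1 h] at hc; exact absurd hc (by norm_num)
  · rw [Orders.co2 h] at hc; exact absurd hc (by norm_num)
  · rw [Orders.co3 h] at hc; exact absurd hc (by norm_num)
  · rw [Orders.mcl h] at hc; exact absurd hc (by norm_num)
  · rw [Orders.hs h] at hc; exact absurd hc (by norm_num)
  · rw [Orders.suz h] at hc; exact absurd hc (by norm_num)
  · rw [Orders.he h] at hc; exact absurd hc (by norm_num)
  · rw [Orders.ru h] at hc; exact absurd hc (by norm_num)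
  · rw [Orders.on h] at hc; exact absurd hc (by norm_num)
  · exact h
  · rw [Orders.fi22 h] at hc; exact absurd hc (by norm_num)
  · rw [Orders.fi23 h] at hc; exact absurd hc (by norm_num)
  · rw [Orders.fi24 h] at hc; exact absurd hc (by norm_num)
  · rw [Orders.hn h] at hc; exact absurd hc (by norm_num)
  · rw [Orders.th h] at hc; exact absurd hc (by norm_num)
  · rw [Orders.b h] at hc; exact absurd hc (by norm_num)
  · rw [Orders.m h] at hc; exact absurd hc (by norm_num)

end Cfsg.Agent.H626.EK
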