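import Cfsg.Agent.H626.EK.Data

/-!
# S5745, CrossK numeric: sporadic `T`, family e7 (helper626)
-/

set_option autoImplicit false
set_option maxHeartbeats 4000000
set_option maxRecDepth 100000

namespace Cfsg.Agent.H626.EK

open Cfsg.Agent.H746.EK
open Cfsg.Agent.H805.EPX (allb allb_iff)

theorem c7e_m11 : allb (fun k => ck7e 7920 1180782 2 (k + 2)) 65 = true := by decide +kernel

theorem c7o_m11 : allb (fun k => ck7o 7920 1180782 4 (k + 2)) 65 = true := by decide +kernel

theorem c7e_m12 : allb (fun k => ck7e 95040 263096654 3 (k + 2)) 65 = true := by decide +kernel

theorem c7o_m12 : allb (fun k => ck7o 95040 263096654 6 (k + 2)) 65 = true := by decide +kernel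

theorem c7e_m22 : allb (fun k => ck7e 443520 12284320528 2 (k + 2)) 65 = true := by decide +kernel

theorem c7o_m22 : allb (fun k => ck7o 443520 12284320528 7 (k + 2)) 65 = true := by decide +kernel

theorem c7e_m23 : allb (fun k => ck7e 10200960 85078705608595 2 (k + 2)) 65 = true := by decide +kernel

theorem c7o_m23 : allb (fun k => ck7o 10200960 85078705608595 7 (k + 2)) 65 = true := by decide +kernel

theorem c7e_m24 : allb (fun k => ck7e 244823040 1161839824146208863 3 (k + 2)) 65 = true := by decide +kernel

theorem c7o_m24 : allb (fun k => ck7o 244823040 1161839824146208863 10 (k + 2)) 65 = true := by decide +kernel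

theorem c7e_j1 : allb (fun k => ck7e 175560 938864925 1 (k + 2)) 65 = true := by decide +kernel

theorem c7o_j1 : allb (fun k => ck7o 175560 938864925 3 (k + 2)) 65 = true := by decide +kernel

theorem c7e_j2 : allb (fun k => ck7e 604800 26403575918 3 (k + 2)) 65 = true := by decide +kernel

theorem c7o_j2 : allb (fun k => ck7o 604800 26403575918 7 (k + 2)) 65 = true := by decide +kernel

theorem c7e_j3 : allb (fun k => ck7e 50232960 9988599647273403 5 (k + 2)) 65 = true := by decide +kernel

theorem c7o_j3 : allb (fun k => ck7o 50232960 9988599647273403 7 (k + 2)) 65 = true := by decide +kernel

theorem c7e_j4 : allb (fun k => ck7e 86775571046077562880 215585949250351294934087316365388129884754236960212054 3 (k + 2)) 65 = true := by decide +kernel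

theorem c7o_j4 : allb (fun k => ck7o 86775571046077562880 215585949250351294934087316365388129884754236960212054 21 (k + 2)) 65 = true := by decide +kernel

theorem c7e_co1 : allb (fun k => ck7e 4157776806543360000 7878565136423900831601518050555680368277884819698983 9 (k + 2)) 65 = true := by decide +kernel

theorem c7o_co1 : allb (fun k => ck7o 4157776806543360000 7878565136423900831601518050555680368277884819698983 21 (k + 2)) 65 = true := by decide +kernel

theorem c7e_co2 : allb (fun k => ck7e 42305421312000 125101331768759548739076491815915034033 6 (k + 2)) 65 = true := by decide +kernel

theorem c7o_co2 : allb (fun k => ck7o 42305421312000 125101331768759548739076491815915034033 18 (k + 2)) 65 = true := by decide +kernel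

theorem c7e_co3 : allb (fun k => ck7e 495766656000 9561507406172574992750562711 7 (k + 2)) 65 = true := by decide +kernel

theorem c7o_co3 : allb (fun k => ck7o 495766656000 9561507406172574992750562711 10 (k + 2)) 65 = true := by decide +kernel

theorem c7e_fi22 : allb (fun k => ck7e 64561751654400 463676411830021209497232836771062454 9 (k + 2)) 65 = true := by decide +kernel

theorem c7o_fi22 : allb (fun k => ck7o 64561751654400 463676411830021209497232836771062454 17 (k + 2)) 65 = true := by decide +kernel

theorem c7e_fi23 : allb (fun k => ck7e 4089470473293004800 5366565648343429615999125079156242694570695954223 13 (k + 2)) 65 = true := by decide +kernel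

theorem c7o_fi23 : allb (fun k => ck7o 4089470473293004800 5366565648343429615999125079156242694570695954223 18 (k + 2)) 65 = true := by decide +kernel

theorem c7e_fi24 : allb (fun k => ck7e 1255205709190661721292800 155181148462093177482650633419451624195053172583263283514355087186 16 (k + 2)) 65 = true := by decide +kernel

theorem c7o_fi24 : allb (fun k => ck7o 1255205709190661721292800 155181148462093177482650633419451624195053172583263283514355087186 21 (k + 2)) 65 = true := by decide +kernel

theorem c7e_hs : allb (fun k => ck7e 44352000 6939969038255186 2 (k + 2)) 65 = true := by decide +kernel

theorem c7o_hs : allb (fun k => ck7o 44352000 6939969038255186 9 (k + 2)) 65 = true := by decide +kernel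

theorem c7e_mcl : allb (fun k => ck7e 898128000 56860639375088534644 6 (k + 2)) 65 = true := by decide +kernel

theorem c7o_mcl : allb (fun k => ck7o 898128000 56860639375088534644 7 (k + 2)) 65 = true := by decide +kernel

theorem c7e_he : allb (fun k => ck7e 4030387200 5137720598400073648596 3 (k + 2)) 65 = true := by decide +kernel

theorem c7o_he : allb (fun k => ck7o 4030387200 5137720598400073648596 10 (k + 2)) 65 = true := by decide +kernel

theorem c7e_ru : allb (fun k => ck7e 145926144000 342912297682013117884884610 3 (k + 2)) 65 = true := by decide +kernel

theorem c7o_ru : allb (fun k => ck7o 145926144000 342912297682013117884884610 14 (k + 2)) 65 = true := by decide +kernel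

theorem c7e_suz : allb (fun k => ck7e 448345497600 7074653979509130896882271457 7 (k + 2)) 65 = true := by decide +kernel

theorem c7o_suz : allb (fun k => ck7o 448345497600 7074653979509130896882271457 13 (k + 2)) 65 = true := by decide +kernel

theorem c7e_on : allb (fun k => ck7e 460815505920 7678487647574025293413381306 4 (k + 2)) 65 = true := by decide +kernel

theorem c7o_on : allb (fun k => ck7o 460815505920 7678487647574025293413381306 9 (k + 2)) 65 = true := by decide +kernel

theorem c7e_hn : allb (fun k => ck7e 273030912000000 1597091312167063101990708086191728813 6 (k + 2)) 65 = true := by decide +kernel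

theorem c7o_hn : allb (fun k => ck7o 273030912000000 1597091312167063101990708086191728813 14 (k + 2)) 65 = true := by decide +kernel

theorem c7e_ly : allb (fun k => ck7e 51765179004000000 10884472780383034928308828156706245361593220 7 (k + 2)) 65 = true := by decide +kernel

theorem c7o_ly : allb (fun k => ck7o 51765179004000000 10884472780383034928308828156706245361593220 8 (k + 2)) 5 = true := by decide +kernel

theorem c7e_th : allb (fun k => ck7e 90745943887872000 58637561862924700520829963564321565756572203 10 (k + 2)) 65 = true := by decide +kernel

theorem c7o_th : allb (fun k => ck7o 90745943887872000 58637561862924700520829963564321565756572203 15 (k + 2)) 65 = true := by decide +kernel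

theorem c7e_b : allb (fun k => ck7e 4154781481226426191177580544000000 16437443347659448028862791724125782397999448537901061120469053380139232491637344324800768764744173499171182762902159875902529566110906174171319444143199388203389 13 (k + 2)) 65 = true := by decide +kernel

theorem c7o_b : allb (fun k => ck7o 4154781481226426191177580544000000 16437443347659448028862791724125782397999448537901061120469053380139232491637344324800768764744173499171182762902159875902529566110906174171319444143199388203389 41 (k + 2)) 65 = true := by decide +kernel

theorem c7e_m : allb (fun k => ck7e 808017424794512875886459904961710757005754368000000000 1744699142847717977959513641796679181329088764586081663414614774730996748629349704627005917895027595677714643402348136734708140095461921260228914718252286018459653028743452252191343070039240443280737959936000000000 20 (k + 2)) 65 = true := by decide +kernel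

theorem c7o_m : allb (fun k => ck7o 808017424794512875886459904961710757005754368000000000 1744699142847717977959513641796679181329088764586081663414614774730996748629349704627005917895027595677714643402348136734708140095461921260228914718252286018459653028743452252191343070039240443280737959936000000000 46 (k + 2)) 5 = true := by decide +kernel

end Cfsg.Agent.H626.EK
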