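import Cfsg.Agent.H626.EK.CkE7

/-!
# S5745, CrossK numeric: **no sporadic `T` with `k ≥ 2` in `E7`** (helper626)

`q` odd and `T = M` or `Ly`: only for `k ≤ 6`.
-/

set_option autoImplicit false
set_option maxRecDepth 100000

namespace Cfsg.Agent.H626.EK

open Cfsg.Agent.H746.EK
open Cfsg.Agent.H805.EPX (allb allb_iff)

theorem s7 {t L e2 e3 n : ℕ} (hL : Lc t = L) (h2 : 2 ^ e2 ∣ t) (h3 : 3 ^ e3 ∣ t)
    (he : allb (fun k => ck7e t L e3 (k + 2)) 65 = true) (ho : allb (fun k => ck7o t L e2 (k + 2)) n = true)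
    {q k C : ℕ} (hq : IsPrimePow q) (hk : 2 ≤ k) (hk' : k ≤ 66) (hn : Odd q → k < n + 2)
    (hC : dn .e7 q * C = nm .e7 q) (hd : t ^ k ∣ C) (hB : C ≤ Bk t (2 * t) k) : False := by
  have e : k - 2 + 2 = k := by omega
  rw [bk_eq, hL] at hB
  by_cases hq2 : Odd q
  · have hn' := hn hq2
    have h1 := allb_iff ho (i := k - 2) (by omega)
    rw [e] at h1
    exact core7o h2 h1 hq hq2 hC hd hB
  · have h1 := allb_iff he (i := k - 2) (by omega)
    rw [e] at h1
    exact core7e h3 h1 hq hq2 hC hd hB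

/-- **`E7`** -/
theorem spor_e7 {t : ℕ} (ht : t ∈ sporO) {q k C : ℕ} (hq : IsPrimePow q) (hk : 2 ≤ k) (hk' : k ≤ 66)
    (hr : Odd q → (t = 808017424794512875886459904961710757005754368000000000 ∨ t = 51765179004000000) → k ≤ 6)
    (hC : dn .e7 q * C = nm .e7 q) (hd : t ^ k ∣ C) (hB : C ≤ Bk t (2 * t) k) : False := by
  simp only [sporO, List.mem_cons, List.not_mem_nil, or_false] at ht
  rcases ht with rfl | rfl | rfl | rfl | rfl | rfl | rfl | rfl | rfl | rfl | rfl | rfl | rfl | rfl | rfl | rfl | rfl | rfl | rfl | rfl | rfl | rfl | rfl | rfl | rfl | rfl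
  · exact s7 L_m11 (by decide +kernel) (by decide +kernel) c7e_m11 c7o_m11 hq hk hk' (fun _ => by omega) hC hd hB
  · exact s7 L_m12 (by decide +kernel) (by decide +kernel) c7e_m12 c7o_m12 hq hk hk' (fun _ => by omega) hC hd hB
  · exact s7 L_m22 (by decide +kernel) (by decide +kernel) c7e_m22 c7o_m22 hq hk hk' (fun _ => by omega) hC hd hB
  · exact s7 L_m23 (by decide +kernel) (by decide +kernel) c7e_m23 c7o_m23 hq hk hk' (fun _ => by omega) hC hd hB
  · exact s7 L_m24 (by decide +kernel) (by decide +kernel) c7e_m24 c7o_m24 hq hk hk' (fun _ => by omega) hC hd hB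
  · exact s7 L_j1 (by decide +kernel) (by decide +kernel) c7e_j1 c7o_j1 hq hk hk' (fun _ => by omega) hC hd hB
  · exact s7 L_j2 (by decide +kernel) (by decide +kernel) c7e_j2 c7o_j2 hq hk hk' (fun _ => by omega) hC hd hB
  · exact s7 L_j3 (by decide +kernel) (by decide +kernel) c7e_j3 c7o_j3 hq hk hk' (fun _ => by omega) hC hd hB
  · exact s7 L_j4 (by decide +kernel) (by decide +kernel) c7e_j4 c7o_j4 hq hk hk' (fun _ => by omega) hC hd hB
  · exact s7 L_co1 (by decide +kernel) (by decide +kernel) c7e_co1 c7o_co1 hq hk hk' (fun _ => by omega) hC hd hB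
  · exact s7 L_co2 (by decide +kernel) (by decide +kernel) c7e_co2 c7o_co2 hq hk hk' (fun _ => by omega) hC hd hB
  · exact s7 L_co3 (by decide +kernel) (by decide +kernel) c7e_co3 c7o_co3 hq hk hk' (fun _ => by omega) hC hd hB
  · exact s7 L_fi22 (by decide +kernel) (by decide +kernel) c7e_fi22 c7o_fi22 hq hk hk' (fun _ => by omega) hC hd hB
  · exact s7 L_fi23 (by decide +kernel) (by decide +kernel) c7e_fi23 c7o_fi23 hq hk hk' (fun _ => by omega) hC hd hB
  · exact s7 L_fi24 (by decide +kernel) (by decide +kernel) c7e_fi24 c7o_fi24 hq hk hk' (fun _ => by omega) hC hd hB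
  · exact s7 L_hs (by decide +kernel) (by decide +kernel) c7e_hs c7o_hs hq hk hk' (fun _ => by omega) hC hd hB
  · exact s7 L_mcl (by decide +kernel) (by decide +kernel) c7e_mcl c7o_mcl hq hk hk' (fun _ => by omega) hC hd hB
  · exact s7 L_he (by decide +kernel) (by decide +kernel) c7e_he c7o_he hq hk hk' (fun _ => by omega) hC hd hB
  · exact s7 L_ru (by decide +kernel) (by decide +kernel) c7e_ru c7o_ru hq hk hk' (fun _ => by omega) hC hd hB
  · exact s7 L_suz (by decide +kernel) (by decide +kernel) c7e_suz c7o_suz hq hk hk' (fun _ => by omega) hC hd hB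
  · exact s7 L_on (by decide +kernel) (by decide +kernel) c7e_on c7o_on hq hk hk' (fun _ => by omega) hC hd hB
  · exact s7 L_hn (by decide +kernel) (by decide +kernel) c7e_hn c7o_hn hq hk hk' (fun _ => by omega) hC hd hB
  · exact s7 L_ly (by decide +kernel) (by decide +kernel) c7e_ly c7o_ly hq hk hk' (fun h => by have := hr h (Or.inr rfl); omega) hC hd hB
  · exact s7 L_th (by decide +kernel) (by decide +kernel) c7e_th c7o_th hq hk hk' (fun _ => by omega) hC hd hB
  · exact s7 L_b (by decide +kernel) (by decide +kernel) c7e_b c7o_b hq hk hk' (fun _ => by omega) hC hd hB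
  · exact s7 L_m (by decide +kernel) (by decide +kernel) c7e_m c7o_m hq hk hk' (fun h => by have := hr h (Or.inl rfl); omega) hC hd hB

end Cfsg.Agent.H626.EK
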