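import Cfsg.Agent.H626.EK.CkE8

/-!
# S5745, CrossK numeric: **no sporadic `T` with `k ≥ 2` in `E8`** (helper626)
-/

set_option autoImplicit false
set_option maxRecDepth 100000

namespace Cfsg.Agent.H626.EK

open Cfsg.Agent.H746.EK
open Cfsg.Agent.H805.EPX (allb allb_iff)

theorem s8 {t L e2 e3 : ℕ} (hL : Lc t = L) (h2 : 2 ^ e2 ∣ t) (h3 : 3 ^ e3 ∣ t)
    (h : allb (fun k => ck8 t L e2 e3 (k + 2)) 123 = true) {q k C : ℕ} (hq : IsPrimePow q) (hk : 2 ≤ k)
    (hk' : k ≤ 124) (hC : dn .e8 q * C = nm .e8 q) (hd : t ^ k ∣ C) (hB : C ≤ Bk t (2 * t) k) : False := by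
  have h1 := allb_iff h (i := k - 2) (by omega)
  have e : k - 2 + 2 = k := by omega
  rw [e] at h1
  rw [bk_eq, hL] at hB
  exact core8 h2 h3 h1 hq hC hd hB

/-- **`E8`** -/
theorem spor_e8 {t : ℕ} (ht : t ∈ sporO) {q k C : ℕ} (hq : IsPrimePow q) (hk : 2 ≤ k) (hk' : k ≤ 124)
    (hC : dn .e8 q * C = nm .e8 q) (hd : t ^ k ∣ C) (hB : C ≤ Bk t (2 * t) k) : False := by
  simp only [sporO, List.mem_cons, List.not_mem_nil, or_false] at ht
  rcases ht with rfl | rfl | rfl | rfl | rfl | rfl | rfl | rfl | rfl | rfl | rfl | rfl | rfl | rfl | rfl | rfl | rfl | rfl | rfl | rfl | rfl | rfl | rfl | rfl | rfl | rfl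
  · exact s8 L_m11 (by decide +kernel) (by decide +kernel) c8_m11 hq hk hk' hC hd hB
  · exact s8 L_m12 (by decide +kernel) (by decide +kernel) c8_m12 hq hk hk' hC hd hB
  · exact s8 L_m22 (by decide +kernel) (by decide +kernel) c8_m22 hq hk hk' hC hd hB
  · exact s8 L_m23 (by decide +kernel) (by decide +kernel) c8_m23 hq hk hk' hC hd hB
  · exact s8 L_m24 (by decide +kernel) (by decide +kernel) c8_m24 hq hk hk' hC hd hB
  · exact s8 L_j1 (by decide +kernel) (by decide +kernel) c8_j1 hq hk hk' hC hd hB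
  · exact s8 L_j2 (by decide +kernel) (by decide +kernel) c8_j2 hq hk hk' hC hd hB
  · exact s8 L_j3 (by decide +kernel) (by decide +kernel) c8_j3 hq hk hk' hC hd hB
  · exact s8 L_j4 (by decide +kernel) (by decide +kernel) c8_j4 hq hk hk' hC hd hB
  · exact s8 L_co1 (by decide +kernel) (by decide +kernel) c8_co1 hq hk hk' hC hd hB
  · exact s8 L_co2 (by decide +kernel) (by decide +kernel) c8_co2 hq hk hk' hC hd hB
  · exact s8 L_co3 (by decide +kernel) (by decide +kernel) c8_co3 hq hk hk' hC hd hB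
  · exact s8 L_fi22 (by decide +kernel) (by decide +kernel) c8_fi22 hq hk hk' hC hd hB
  · exact s8 L_fi23 (by decide +kernel) (by decide +kernel) c8_fi23 hq hk hk' hC hd hB
  · exact s8 L_fi24 (by decide +kernel) (by decide +kernel) c8_fi24 hq hk hk' hC hd hB
  · exact s8 L_hs (by decide +kernel) (by decide +kernel) c8_hs hq hk hk' hC hd hB
  · exact s8 L_mcl (by decide +kernel) (by decide +kernel) c8_mcl hq hk hk' hC hd hB
  · exact s8 L_he (by decide +kernel) (by decide +kernel) c8_he hq hk hk' hC hd hB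
  · exact s8 L_ru (by decide +kernel) (by decide +kernel) c8_ru hq hk hk' hC hd hB
  · exact s8 L_suz (by decide +kernel) (by decide +kernel) c8_suz hq hk hk' hC hd hB
  · exact s8 L_on (by decide +kernel) (by decide +kernel) c8_on hq hk hk' hC hd hB
  · exact s8 L_hn (by decide +kernel) (by decide +kernel) c8_hn hq hk hk' hC hd hB
  · exact s8 L_ly (by decide +kernel) (by decide +kernel) c8_ly hq hk hk' hC hd hB
  · exact s8 L_th (by decide +kernel) (by decide +kernel) c8_th hq hk hk' hC hd hB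
  · exact s8 L_b (by decide +kernel) (by decide +kernel) c8_b hq hk hk' hC hd hB
  · exact s8 L_m (by decide +kernel) (by decide +kernel) c8_m hq hk hk' hC hd hB

end Cfsg.Agent.H626.EK
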